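import Groth.Agent.Sga7.H738.S4057Of
import Groth.Agent.Sga7.H760.L2
import Groth.Agent.Sga7.H737.S4056Asm
import Groth.Agent.Sga7.H751.SecRoot

/-!
# S4057 from S4061
-/

set_option autoImplicit false
universe u
open CategoryTheory CategoryTheory.Limits AlgebraicGeometry MonObj
open SGA7

namespace Groth.Agent.Sga7.H738.S4057Comm

theorem l2 : RankZeroBc.L2Prop.{u} := fun k _ _ G _ _ j _ hj => Groth.Agent.Sga7.H760.L2 k G j hj

/-- A base change of a commutative group scheme is commutative. -/
theorem isCommMonObj_bc {S S' : Scheme.{u}} (f : S' ⟶ S) (G : Over S) [GrpObj G] [IsCommMonObj G] :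
    IsCommMonObj (Red.bc f G) := inferInstance

theorem result_of (h61 : H737.S4056Asm.FlatNhd.{u}) (R K R' K' : Type u) [CommRing R] [IsDedekindDomain R]
    [Field K] [Algebra R K] [IsFractionRing R K] [CommRing R'] [IsDedekindDomain R']
    [Field K'] [Algebra R' K'] [IsFractionRing R' K']
    (φ : R →+* R')
    (N : Over (Spec (CommRingCat.of R))) [GrpObj N] (hN : SGA7.IsNeron R K N)
    [IsProper ((SGA7.genFib R K).obj N).hom] [GeometricallyIntegral ((SGA7.genFib R K).obj N).hom]
    (hss : SGA7.FibresUnipotentRankZero N)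
    (N' : Over (Spec (CommRingCat.of R'))) [GrpObj N'] (hN' : SGA7.IsNeron R' K' N')
    (u : Red.bc (Spec.map (CommRingCat.ofHom φ)) N ⟶ N') [IsMonHom u] [IsIso ((SGA7.genFib R' K').map u)] :
    IsOpenImmersion u.left := by
  have hc : IsCommMonObj N := Groth.Agent.Sga7.H751.SecRoot.isCommMonObj_of_isNeron R K N hN
  have hc' : IsCommMonObj (Red.bc (Spec.map (CommRingCat.ofHom φ)) N) := isCommMonObj_bc _ _
  have h1 : Smooth N.hom := hN.1
  have h2 : IsSeparated N.hom := hN.2.1
  have h3 : QuasiCompact N.hom := hN.2.2.1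
  have h4 : Smooth N'.hom := hN'.1
  have h5 : IsSeparated N'.hom := hN'.2.1
  have h6 : QuasiCompact N'.hom := hN'.2.2.1
  have h7 : Smooth (Red.bc (Spec.map (CommRingCat.ofHom φ)) N).hom := by dsimp; infer_instance
  have h8 : IsSeparated (Red.bc (Spec.map (CommRingCat.ofHom φ)) N).hom := by dsimp; infer_instance
  have h9 : QuasiCompact (Red.bc (Spec.map (CommRingCat.ofHom φ)) N).hom := by dsimp; infer_instance
  have h10 : Flat (Red.bc (Spec.map (CommRingCat.ofHom φ)) N).hom := inferInstance
  have h11 : LocallyOfFinitePresentation (Red.bc (Spec.map (CommRingCat.ofHom φ)) N).hom := inferInstance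
  exact H737.S4056Asm.main h61 R' K' (Red.bc (Spec.map (CommRingCat.ofHom φ)) N) N'
    (RankZeroBc.fibresUnipotentRankZero_bc l2 (Spec.map (CommRingCat.ofHom φ)) N hss) u

end Groth.Agent.Sga7.H738.S4057Comm
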