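import Groth.Agent.Sga7.H738.SpreadMor
import Groth.Agent.Sga3B.BcPts
import Groth.Agent.Ega4dB.SchDense
import Groth.Agent.Books.AntiAffine
import Groth.Agent.Sga3B.BorDesc613
import Groth.Agent.Sga3C.SchemImage
import Mathlib.RingTheory.Spectrum.Prime.Topology
import Mathlib.AlgebraicGeometry.AlgClosed.Basic
import Mathlib.AlgebraicGeometry.Geometrically.Reduced
import Mathlib.RingTheory.Jacobson.Ring

/-!
# Specialising homomorphisms of group schemes defined over an extension of an algebraically closed field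
-/

set_option autoImplicit false

universe u

open CategoryTheory MonoidalCategory CartesianMonoidalCategory MonObj GrpObj AlgebraicGeometry

namespace Groth.Agent.Sga7.H738.SpreadHom

open Groth.Agent.Sga7.H738.SpreadMor Groth.Agent.Sga3B.BcPts

section

variable (k : Type u) [CommRing k]

/-- `Spec A` over `Spec k` -/
noncomputable abbrev sp (A : Type u) [CommRing A] [Algebra k A] : Over (Spec (CommRingCat.of k)) :=
  Over.mk (str k A)

variable {k}

/-- functoriality of `sp` -/
noncomputable def spMap {A B : Type u} [CommRing A] [Algebra k A] [CommRing B] [Algebra k B]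
    (f : A →ₐ[k] B) : sp k B ⟶ sp k A :=
  Over.homMk (Spec.map (CommRingCat.ofHom f.toRingHom)) (by
    change Spec.map _ ≫ Spec.map _ = Spec.map _
    rw [← Spec.map_comp, ← CommRingCat.ofHom_comp]
    congr 2
    exact f.comp_algebraMap)

/-- Spreading out, in `Over (Spec k)`. -/
theorem exists_factor (A : Type u) [CommRing A] [Algebra k A] (X Y : Over (Spec (CommRingCat.of k)))
    [QuasiCompact X.hom] [QuasiSeparated X.hom] [LocallyOfFinitePresentation Y.hom]
    (F : X ⊗ sp k A ⟶ Y) :
    ∃ (B : Subalgebra k A) (_ : B.FG) (ψ : X ⊗ sp k B ⟶ Y), (X ◁ spMap B.val) ≫ ψ = F := by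
  obtain ⟨B, hB, ψ, h1, h2⟩ := exists_fg_factor k A X.hom Y.hom F.left (Over.w F)
  refine ⟨B, hB, Over.homMk ψ h1, ?_⟩
  ext1
  exact h2

end

variable {S : Scheme.{u}}

/-- A family of homomorphisms `X ⟶ G` parametrised by `T`. -/
def IsHomFam {X G T : Over S} [GrpObj X] [GrpObj G] (F : X ⊗ T ⟶ G) : Prop :=
  ∀ (Z : Over S) (x y : Z ⟶ X) (t : Z ⟶ T), lift (x * y) t ≫ F = (lift x t ≫ F) * (lift y t ≫ F)

lemma isHomFam_fam {S' : Scheme.{u}} {f : S' ⟶ S} {X G : Over S} [GrpObj X] [GrpObj G]
    (j : Red.bc f X ⟶ Red.bc f G) [IsMonHom j] : IsHomFam (fam j) := by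
  intro Z x y t
  rw [lift_fam, lift_fam, lift_fam, ev_mul]

/-- The homomorphism property descends along a scheme-theoretically dominant base change. -/
lemma isHomFam_of_dominant {X G T T' : Over S} [GrpObj X] [GrpObj G] [IsSeparated G.hom] (ρ : T' ⟶ T)
    (F : X ⊗ T ⟶ G) (hρ : IsSchemeTheoreticallyDominant ((X ⊗ X) ◁ ρ).left)
    (h : IsHomFam ((X ◁ ρ) ≫ F)) : IsHomFam F := by
  have key : lift ((fst (X ⊗ X) T ≫ fst X X) * (fst (X ⊗ X) T ≫ snd X X)) (snd (X ⊗ X) T) ≫ F =
      (lift (fst (X ⊗ X) T ≫ fst X X) (snd (X ⊗ X) T) ≫ F) *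
        (lift (fst (X ⊗ X) T ≫ snd X X) (snd (X ⊗ X) T) ≫ F) := by
    ext1
    refine Ega4dB.SchDense.ext_of_isSchemeTheoreticallyDominant G.hom ?_ ((X ⊗ X) ◁ ρ).left ?_
    · rw [Over.w, Over.w]
    · rw [← Over.comp_left, ← Over.comp_left]
      congr 1
      have := h ((X ⊗ X) ⊗ T') (fst (X ⊗ X) T' ≫ fst X X) (fst (X ⊗ X) T' ≫ snd X X) (snd (X ⊗ X) T')
      rw [MonObj.comp_mul]
      convert this using 1
      · rw [← Category.assoc, ← Category.assoc]
        congr 1
        apply hom_ext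
        · simp [MonObj.comp_mul]
        · simp
      · congr 1
        · rw [← Category.assoc, ← Category.assoc]
          congr 1
          apply hom_ext <;> simp
        · rw [← Category.assoc, ← Category.assoc]
          congr 1
          apply hom_ext <;> simp
  intro Z x y t
  have e := congrArg (fun u => lift (lift x y) t ≫ u) key
  simp only [MonObj.comp_mul, ← Category.assoc] at e
  simpa [comp_lift, MonObj.comp_mul] using e

/-- The member of a family at a section of the base. -/
noncomputable def mem {X G T : Over S} (F : X ⊗ T ⟶ G) (a : 𝟙_ (Over S) ⟶ T) : X ⟶ G :=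
  lift (𝟙 X) (toUnit X ≫ a) ≫ F

lemma comp_mem {X G T : Over S} (F : X ⊗ T ⟶ G) (a : 𝟙_ (Over S) ⟶ T) {Z : Over S} (x : Z ⟶ X) :
    x ≫ mem F a = lift x (toUnit Z ≫ a) ≫ F := by
  rw [mem, ← Category.assoc, comp_lift, Category.comp_id, ← Category.assoc, toUnit_unique (x ≫ toUnit X) (toUnit Z)]

lemma isMonHom_of_points {X G : Over S} [GrpObj X] [GrpObj G] (j : X ⟶ G)
    (h : ∀ (Z : Over S) (x y : Z ⟶ X), (x * y) ≫ j = (x ≫ j) * (y ≫ j)) : IsMonHom j := by
  have hmul : μ ≫ j = (j ⊗ₘ j) ≫ μ := by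
    have := h (X ⊗ X) (fst X X) (snd X X)
    rw [Hom.mul_def, Hom.mul_def, lift_fst_snd, Category.id_comp] at this
    rw [this]
    congr 1
  refine ⟨?_, hmul⟩
  have h1 := h (𝟙_ _) (1 : 𝟙_ (Over S) ⟶ X) (1 : 𝟙_ (Over S) ⟶ X)
  have h2 : (1 : 𝟙_ (Over S) ⟶ X) * 1 = 1 := _root_.mul_one _
  rw [h2] at h1
  have h3 : (1 : 𝟙_ (Over S) ⟶ X) ≫ j = 1 := left_eq_mul.mp h1
  rw [Hom.one_def, Hom.one_def] at h3
  simpa using h3

lemma ev_one' {S' : Scheme.{u}} {c : S' ⟶ S} {G X : Over S} [GrpObj G] {T : Over S} (x : T ⟶ X)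
    (t : T ⟶ Over.mk c) : ev (1 : Red.bc c X ⟶ Red.bc c G) x t = 1 := by
  let z := bcEquiv c (Over.mk t.left) X ((overIso t).hom ≫ x)
  change (overIso t).inv ≫ (bcEquiv c (Over.mk t.left) G).symm (z ≫ 1) = 1
  have h1 : z ≫ (1 : Red.bc c X ⟶ Red.bc c G) = 1 := MonObj.comp_one z
  have h2 : (bcEquiv c (Over.mk t.left) G).symm 1 = 1 := (bcMulEquiv c (Over.mk t.left) G).symm.map_one
  rw [h1, h2]
  exact MonObj.comp_one _

lemma eq_one_of_fam {S' : Scheme.{u}} {c : S' ⟶ S} {G X : Over S} [GrpObj G]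
    {j : Red.bc c X ⟶ Red.bc c G} (h : fam j = 1) : j = 1 := by
  refine Sga3B.BorDesc613.eq_of_ev fun T x t => ?_
  rw [ev_one', ← lift_fam, h, MonObj.comp_one]

lemma isMonHom_mem {X G T : Over S} [GrpObj X] [GrpObj G] (F : X ⊗ T ⟶ G) (hF : IsHomFam F)
    (a : 𝟙_ (Over S) ⟶ T) : IsMonHom (mem F a) := by
  refine isMonHom_of_points _ fun Z x y => ?_
  rw [comp_mem, comp_mem, comp_mem, hF]

section field

variable {k : Type u} [Field k] [IsAlgClosed k]

/-- Two morphisms from a reduced scheme locally of finite type to a separated one which agree on all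
`k`-points agree. -/
lemma ext_of_points {X Y : Over (Spec (CommRingCat.of k))} [LocallyOfFiniteType X.hom] [IsReduced X.left]
    [IsSeparated Y.hom] [LocallyOfFiniteType Y.hom] {f g : X ⟶ Y}
    (h : ∀ x : 𝟙_ (Over (Spec (CommRingCat.of k))) ⟶ X, x ≫ f = x ≫ g) : f = g := by
  ext1
  have : LocallyOfFiniteType (f.left ≫ Y.hom) := by rw [Over.w]; infer_instance
  refine ext_of_apply_eq Y.hom Set.univ isClosed_univ.isLocallyClosed dense_univ ?_ ?_
  · intro x _ hx
    let p : 𝟙_ (Over (Spec (CommRingCat.of k))) ⟶ X := Over.homMk (pointOfClosedPoint X.hom x hx) (by simp)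
    have h1 := congr(($(h p)).left (IsLocalRing.closedPoint k))
    have h2 : p.left (IsLocalRing.closedPoint k) = x := by simp [p]
    rw [Over.comp_left, Over.comp_left] at h1
    change f.left (p.left (IsLocalRing.closedPoint k)) = g.left (p.left (IsLocalRing.closedPoint k)) at h1
    rwa [h2] at h1
  · rw [Over.w, Over.w]

omit [IsAlgClosed k] in
lemma isSchemeTheoreticallyDominant_spMap {Ω : Type u} [Field Ω] [Algebra k Ω] (B : Subalgebra k Ω) :
    IsSchemeTheoreticallyDominant (spMap B.val).left := by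
  have : IsDominant (spMap B.val).left := by
    rw [isDominant_iff]
    refine (PrimeSpectrum.denseRange_comap_iff_ker_le_nilRadical (B.val.toRingHom)).2 ?_
    intro x hx
    have : x = 0 := Subtype.ext hx
    rw [this]
    exact zero_mem _
  have : IsReduced (sp k B).left := inferInstanceAs (IsReduced (Spec (CommRingCat.of B)))
  exact .of_isDominant _

/-- **Specialising homomorphisms**: `k` algebraically closed, `Ω` a field extension, `X, G` group schemes
over `k`, `X` smooth quasi-compact quasi-separated, `G` locally of finite type. If there is a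
non-trivial homomorphism `X_Ω ⟶ G_Ω` then there is a non-trivial homomorphism `X ⟶ G`. -/
theorem exists_hom (Ω : Type u) [Field Ω] [Algebra k Ω] (X G : Over (Spec (CommRingCat.of k)))
    [GrpObj X] [GrpObj G] [QuasiCompact X.hom] [QuasiSeparated X.hom] [LocallyOfFiniteType X.hom]
    [GeometricallyReduced X.hom]
    [LocallyOfFiniteType G.hom] (j : Red.bc (str k Ω) X ⟶ Red.bc (str k Ω) G) [IsMonHom j]
    (hj : j ≠ 1) : ∃ j0 : X ⟶ G, IsMonHom j0 ∧ j0 ≠ 1 := by
  have hsep : IsSeparated G.hom := Books.AntiAffine.isSeparated_hom G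
  have : LocallyOfFinitePresentation G.hom := inferInstance
  obtain ⟨B, hB, F, hF⟩ := exists_factor Ω X G (fam j)
  have hBft : Algebra.FiniteType k B := (Subalgebra.fg_iff_finiteType _).1 hB
  have hBn : IsNoetherianRing B := Algebra.FiniteType.isNoetherianRing k B
  have hBl : LocallyOfFiniteType (sp k B).hom := by
    change LocallyOfFiniteType (Spec.map (CommRingCat.ofHom (algebraMap k B)))
    rw [HasRingHomProperty.Spec_iff (P := @LocallyOfFiniteType)]
    exact (RingHom.finiteType_algebraMap (A := k) (B := B)).2 hBft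
  -- the family is a family of homomorphisms
  have hdom0 : IsSchemeTheoreticallyDominant (spMap B.val).left := isSchemeTheoreticallyDominant_spMap B
  have hqc0 : QuasiCompact (spMap B.val).left := inferInstanceAs (QuasiCompact (Spec.map _))
  have hdom (Y : Over (Spec (CommRingCat.of k))) : IsSchemeTheoreticallyDominant (Y ◁ spMap B.val).left := by
    have : Flat (snd Y (sp k B)).left := Sga3C.SchemImage.flat_snd Y (sp k B)
    exact IsSchemeTheoreticallyDominant.of_isPullback
      (Sga3C.SchemImage.isPullback_whiskerLeft_left (spMap B.val) Y).flip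
  have hF1 : IsHomFam ((X ◁ spMap B.val) ≫ F) := by rw [hF]; exact isHomFam_fam j
  have hF2 : IsHomFam F := isHomFam_of_dominant (spMap B.val) F (hdom _) hF1
  -- it is non-trivial
  have hne : F ≠ 1 := by
    rintro rfl
    refine hj (eq_one_of_fam ?_)
    rw [← hF, MonObj.comp_one]
  -- choose a point of `X ⊗ sp B`
  have hlft : LocallyOfFiniteType (X ⊗ sp k B).hom := by
    rw [Over.tensorObj_hom]
    infer_instance
  have hred : IsReduced (X ⊗ sp k B).left := by
    rw [Over.tensorObj_left]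
    have : IsReduced (sp k B).left := inferInstanceAs (IsReduced (Spec (CommRingCat.of B)))
    have : IsLocallyNoetherian (sp k B).left :=
      inferInstanceAs (IsLocallyNoetherian (Spec (CommRingCat.of B)))
    infer_instance
  obtain ⟨z, hz⟩ : ∃ z : 𝟙_ (Over (Spec (CommRingCat.of k))) ⟶ X ⊗ sp k B, z ≫ F ≠ z ≫ 1 := by
    by_contra! hcon
    exact hne (ext_of_points hcon)
  refine ⟨mem F (z ≫ snd _ _), isMonHom_mem F hF2 _, fun h1 => hz ?_⟩
  have h2 := comp_mem F (z ≫ snd _ _) (z ≫ fst _ _)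
  have h3 : lift (z ≫ fst X (sp k B)) (toUnit (𝟙_ (Over (Spec (CommRingCat.of k)))) ≫ z ≫ snd X (sp k B)) = z := by
    apply hom_ext <;> simp
  rw [h1, h3, MonObj.comp_one] at h2
  rw [← h2, MonObj.comp_one]

end field

end Groth.Agent.Sga7.H738.SpreadHom
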