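import Groth.Prelude.Def_SGA7IX
import Groth.Agent.Sga7.H738.SpreadHom
import Groth.Agent.Sga3B.GaPts
import Groth.Agent.Sga3B.BcIso
import Groth.Agent.Flat2B.SmoothGeom
import Mathlib.LinearAlgebra.SymmetricAlgebra.Basis
import Mathlib.RingTheory.Smooth.Basic
import Mathlib.RingTheory.FinitePresentation

/-!
# Unipotent rank zero and extensions of algebraically closed fields

If a group scheme `G` locally of finite type over an algebraically closed field `k` acquires a closed
subgroup `𝔾_a` over an extension field, it has a non-trivial homomorphism `𝔾_a ⟶ G` over `k`.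
-/

set_option autoImplicit false

universe u

open CategoryTheory MonoidalCategory CartesianMonoidalCategory MonObj GrpObj AlgebraicGeometry

namespace Groth.Agent.Sga7.H738.GaBc

open Groth.Agent.Sga7.H738.SpreadMor Groth.Agent.Sga7.H738.SpreadHom Groth.Agent.Sga3B Groth.Agent.Sga3B.GaPts

variable {S S' S'' : Scheme.{u}}

/-- Base change of `𝔾_a`. -/
noncomputable def gaIso (f : S' ⟶ S) : Grp.mk (Red.bc f (Red.Ga S)) ≅ Grp.mk (Red.Ga S') :=
  (BcIso.bcCompIso f (Limits.IsTerminal.from specULiftZIsTerminal S) Red.GaZ).symm ≪≫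
    BcIso.bcCongrIso (specULiftZIsTerminal.hom_ext _ _) _

/-- `𝔾_a` is non-trivial over a nonempty scheme: `0 ≠ 1`. -/
lemma ne_one_of_mono [Nonempty S] {G : Over S} [GrpObj G] (j : Red.Ga S ⟶ G) [Mono j] : j ≠ 1 := by
  rintro rfl
  have h1 : gaPt (𝟙_ (Over S)) 1 ≫ (1 : Red.Ga S ⟶ G) = gaPt (𝟙_ (Over S)) 0 ≫ (1 : Red.Ga S ⟶ G) := by
    rw [MonObj.comp_one, MonObj.comp_one]
  have h2 := congrArg Red.gaFn ((cancel_mono (1 : Red.Ga S ⟶ G)).mp h1)
  rw [gaFn_gaPt, gaFn_gaPt] at h2
  change (1 : Γ(S, ⊤)) = 0 at h2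
  have : Nontrivial Γ(S, ⊤) := by
    have : Nonempty (⊤ : S.Opens) := ⟨⟨Classical.arbitrary S, trivial⟩⟩
    infer_instance
  exact one_ne_zero h2

attribute [local instance 10] ULift.algebra'

lemma smooth_mv (R : Type u) [CommRing R] : Algebra.Smooth R (MvPolynomial Unit R) where
  formallySmooth := inferInstance
  finitePresentation := inferInstance

lemma smooth_sym (R : Type u) [CommRing R] : Algebra.Smooth R (SymmetricAlgebra R R) :=
  have := smooth_mv R
  Algebra.Smooth.of_equiv (SymmetricAlgebra.equivMvPolynomial (Module.Basis.singleton Unit R)).symm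

/-- `𝔾_a` is smooth. -/
instance smooth_ga : Smooth (Red.Ga S).hom := by
  have h1 : Smooth Red.GaZ.{u}.hom := by
    change Smooth (Spec.map (CommRingCat.ofHom (algebraMap (ULift.{u} ℤ) (SymmetricAlgebra (ULift.{u} ℤ) (ULift.{u} ℤ)))))
    rw [HasRingHomProperty.Spec_iff (P := @Smooth)]
    exact RingHom.smooth_algebraMap.2 (smooth_sym _)
  exact MorphismProperty.pullback_snd _ _ h1

instance affine_ga : IsAffineHom (Red.Ga S).hom := by
  have h1 : IsAffineHom Red.GaZ.{u}.hom :=
    inferInstanceAs (IsAffineHom (Spec.map (CommRingCat.ofHom (algebraMap (ULift.{u} ℤ) (SymmetricAlgebra (ULift.{u} ℤ) (ULift.{u} ℤ))))))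
  exact MorphismProperty.pullback_snd _ _ h1

/-- Precomposing with an isomorphism of groups preserves non-triviality. -/
lemma ne_one_of_iso {A B G : Over S} [GrpObj A] [GrpObj B] [GrpObj G] (e : Grp.mk A ≅ Grp.mk B) (j : B ⟶ G)
    (hj : j ≠ 1) : e.hom.hom.hom ≫ j ≠ 1 := by
  intro h
  apply hj
  have h3 : e.inv.hom.hom ≫ e.hom.hom.hom = 𝟙 _ := congrArg (fun z => z.hom.hom) e.inv_hom_id
  have h2 : e.inv.hom.hom ≫ e.hom.hom.hom ≫ j = j := by
    rw [← Category.assoc, h3]
    exact Category.id_comp _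
  rw [← h2, h]
  exact MonObj.comp_one _

/-- **Homomorphisms from `𝔾_a` descend** to algebraically closed fields. -/
theorem exists_hom_ga (k : Type u) [Field k] [IsAlgClosed k] (Ω : Type u) [Field Ω] [Algebra k Ω]
    (G : Over (Spec (CommRingCat.of k))) [GrpObj G] [LocallyOfFiniteType G.hom]
    (j : Red.Ga (Spec (CommRingCat.of Ω)) ⟶ Red.bc (Spec.map (CommRingCat.ofHom (algebraMap k Ω))) G)
    [IsMonHom j] (hj : j ≠ 1) :
    ∃ j' : Red.Ga (Spec (CommRingCat.of k)) ⟶ G, IsMonHom j' ∧ j' ≠ 1 := by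
  have h1 : IsMonHom (gaIso (Spec.map (CommRingCat.ofHom (algebraMap k Ω)))).hom.hom.hom :=
    (gaIso (Spec.map (CommRingCat.ofHom (algebraMap k Ω)))).hom.hom.isMonHom_hom
  have : GeometricallyReduced (Red.Ga (Spec (CommRingCat.of k))).hom :=
    Flat2B.SmoothGeom.geometricallyReduced_of_smooth _
  exact exists_hom Ω (Red.Ga (Spec (CommRingCat.of k))) G
    ((gaIso (Spec.map (CommRingCat.ofHom (algebraMap k Ω)))).hom.hom.hom ≫ j) (ne_one_of_iso _ _ hj)

end Groth.Agent.Sga7.H738.GaBc
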