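import Groth.Agent.Sga7.H738.GaBc

/-!
# Unipotent rank zero and base change

`L2Prop` is the statement that a group scheme locally of finite type over an algebraically closed field with a
non-trivial homomorphism from `𝔾_a` contains a closed subgroup `𝔾_a`.  Granting it, the condition
`SGA7.FibreUnipotentRankZero` is stable under base change.
-/

set_option autoImplicit false

universe u

open CategoryTheory MonoidalCategory CartesianMonoidalCategory MonObj GrpObj AlgebraicGeometry

namespace Groth.Agent.Sga7.H738.RankZeroBc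

open Groth.Agent.Sga7.H738.GaBc Groth.Agent.Sga3B

/-- Over an algebraically closed field a non-trivial homomorphism from `𝔾_a` gives a closed subgroup `𝔾_a`. -/
def L2Prop : Prop := ∀ (k : Type u) [Field k] [IsAlgClosed k] (G : Over (Spec (CommRingCat.of k))) [GrpObj G]
    [LocallyOfFiniteType G.hom] (j : Red.Ga (Spec (CommRingCat.of k)) ⟶ G) [IsMonHom j], j ≠ 1 →
    ∃ j' : Red.Ga (Spec (CommRingCat.of k)) ⟶ G, IsMonHom j' ∧ IsClosedImmersion j'.left

variable {S S' : Scheme.{u}}

lemma mono_of_isClosedImmersion_left {X Y : Over S} (j : X ⟶ Y) (hj : IsClosedImmersion j.left) : Mono j := by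
  have : Mono j.left := inferInstance
  exact Over.mono_of_mono_left j

/-- `L3`: a closed `𝔾_a` over an extension of an algebraically closed field descends. -/
theorem exists_closed_ga (hL2 : L2Prop.{u}) (k Ω : Type u) [Field k] [IsAlgClosed k] [Field Ω] [Algebra k Ω]
    (G : Over (Spec (CommRingCat.of k))) [GrpObj G] [LocallyOfFiniteType G.hom]
    (j : Red.Ga (Spec (CommRingCat.of Ω)) ⟶ Red.bc (Spec.map (CommRingCat.ofHom (algebraMap k Ω))) G)
    [IsMonHom j] (hj : IsClosedImmersion j.left) :
    ∃ j' : Red.Ga (Spec (CommRingCat.of k)) ⟶ G, IsMonHom j' ∧ IsClosedImmersion j'.left := by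
  have : Mono j := mono_of_isClosedImmersion_left j hj
  obtain ⟨j', h1, h2⟩ := exists_hom_ga k Ω G j (ne_one_of_mono j)
  exact hL2 k G j' h2

/-- A geometric point over `s'` maps to a geometric point over `f s'`. -/
theorem exists_geomPt (f : S' ⟶ S) (s' : S') :
    ∃ e : AlgebraicClosure (S.residueField (f s')) →+* AlgebraicClosure (S'.residueField s'),
      Spec.map (CommRingCat.ofHom e) ≫ Red.geomPt (f s') = Red.geomPt s' ≫ f := by
  let k := S.residueField (f s')
  let k' := S'.residueField s'
  let φ : k →+* AlgebraicClosure k' := (algebraMap k' (AlgebraicClosure k')).comp (f.residueFieldMap s').hom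
  let a1 : Algebra k (AlgebraicClosure k') := φ.toAlgebra
  let e : AlgebraicClosure k →ₐ[k] AlgebraicClosure k' := IsAlgClosed.lift
  refine ⟨e.toRingHom, ?_⟩
  rw [Red.geomPt, Red.geomPt, Category.assoc, ← Scheme.Hom.SpecMap_residueFieldMap_fromSpecResidueField,
      ← Category.assoc, ← Category.assoc, ← Spec.map_comp, ← Spec.map_comp]
  congr 2
  ext a
  exact e.commutes a

/-- `L3'`: **unipotent rank zero is stable under base change**. -/
theorem fibreUnipotentRankZero_bc (hL2 : L2Prop.{u}) (f : S' ⟶ S) (G : Over S) [GrpObj G]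
    [LocallyOfFiniteType G.hom] (s' : S') (h : SGA7.FibreUnipotentRankZero (f s') G) :
    SGA7.FibreUnipotentRankZero s' (Red.bc f G) := by
  intro j hj1 hj2
  obtain ⟨e, he⟩ := exists_geomPt f s'
  let _ : Algebra (AlgebraicClosure (S.residueField (f s'))) (AlgebraicClosure (S'.residueField s')) := e.toAlgebra
  let i : Grp.mk (Red.bc (Red.geomPt s') (Red.bc f G)) ≅
      Grp.mk (Red.bc (Spec.map (CommRingCat.ofHom e)) (Red.bc (Red.geomPt (f s')) G)) :=
    (BcIso.bcCompIso (Red.geomPt s') f G).symm ≪≫ BcIso.bcCongrIso he.symm G ≪≫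
      BcIso.bcCompIso (Spec.map (CommRingCat.ofHom e)) (Red.geomPt (f s')) G
  have hi : IsMonHom i.hom.hom.hom := i.hom.hom.isMonHom_hom
  have hi2 : IsIso i.hom.hom.hom.left := by
    have h1 : i.hom.hom.hom.left ≫ i.inv.hom.hom.left = 𝟙 _ :=
      congrArg (fun z => z.hom.hom.left) i.hom_inv_id
    have h2 : i.inv.hom.hom.left ≫ i.hom.hom.hom.left = 𝟙 _ :=
      congrArg (fun z => z.hom.hom.left) i.inv_hom_id
    exact ⟨_, h1, h2⟩
  have hlft : LocallyOfFiniteType (Red.bc (Red.geomPt (f s')) G).hom := by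
    dsimp
    infer_instance
  have h3 : IsMonHom (j ≫ i.hom.hom.hom) := inferInstance
  have h4 : IsClosedImmersion (j ≫ i.hom.hom.hom).left := by
    rw [Over.comp_left]
    infer_instance
  obtain ⟨j', h5, h6⟩ := exists_closed_ga hL2 (AlgebraicClosure (S.residueField (f s')))
    (AlgebraicClosure (S'.residueField s')) (Red.geomFibre (f s') G) (j ≫ i.hom.hom.hom) h4
  exact h j' h5 h6

theorem fibresUnipotentRankZero_bc (hL2 : L2Prop.{u}) (f : S' ⟶ S) (G : Over S) [GrpObj G]
    [LocallyOfFiniteType G.hom] (h : SGA7.FibresUnipotentRankZero G) :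
    SGA7.FibresUnipotentRankZero (Red.bc f G) :=
  fun s' => fibreUnipotentRankZero_bc hL2 f G s' (h _)

end Groth.Agent.Sga7.H738.RankZeroBc
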