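import Groth.Agent.Sga7.H738.RankZeroBc
import Mathlib.RingTheory.DedekindDomain.Basic

/-!
# S4057 from the Dedekind form of the open immersion criterion
-/

set_option autoImplicit false
universe u
open CategoryTheory CategoryTheory.Limits AlgebraicGeometry MonObj
open SGA7

namespace Groth.Agent.Sga7.H738.S4057Of

open Groth.Agent.Sga7.H738.RankZeroBc

/-- The Dedekind form of the criterion: a homomorphism of smooth separated group schemes of finite type which is
an isomorphism on generic fibres and whose source has fibres of unipotent rank zero is an open immersion. -/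
def KeyDedekind : Prop := ∀ (R K : Type u) [CommRing R] [IsDedekindDomain R] [Field K] [Algebra R K]
    [IsFractionRing R K] (G N : Over (Spec (CommRingCat.of R))) [GrpObj G] [GrpObj N]
    [Smooth G.hom] [IsSeparated G.hom] [QuasiCompact G.hom]
    [Smooth N.hom] [IsSeparated N.hom] [QuasiCompact N.hom]
    (_ : SGA7.FibresUnipotentRankZero G) (u : G ⟶ N) [IsMonHom u] [IsIso ((SGA7.genFib R K).map u)],
    IsOpenImmersion u.left

theorem result_of (hL2 : L2Prop.{u}) (hkey : KeyDedekind.{u}) (R K R' K' : Type u) [CommRing R] [IsDedekindDomain R]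
    [Field K] [Algebra R K] [IsFractionRing R K] [CommRing R'] [IsDedekindDomain R']
    [Field K'] [Algebra R' K'] [IsFractionRing R' K']
    (φ : R →+* R')
    (N : Over (Spec (CommRingCat.of R))) [GrpObj N] (hN : SGA7.IsNeron R K N)
    (hss : SGA7.FibresUnipotentRankZero N)
    (N' : Over (Spec (CommRingCat.of R'))) [GrpObj N'] (hN' : SGA7.IsNeron R' K' N')
    (u : Red.bc (Spec.map (CommRingCat.ofHom φ)) N ⟶ N') [IsMonHom u] [IsIso ((SGA7.genFib R' K').map u)] :
    IsOpenImmersion u.left := by
  have h1 : Smooth N.hom := hN.1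
  have h2 : IsSeparated N.hom := hN.2.1
  have h3 : QuasiCompact N.hom := hN.2.2.1
  have h4 : Smooth N'.hom := hN'.1
  have h5 : IsSeparated N'.hom := hN'.2.1
  have h6 : QuasiCompact N'.hom := hN'.2.2.1
  have h7 : Smooth (Red.bc (Spec.map (CommRingCat.ofHom φ)) N).hom := by dsimp; infer_instance
  have h8 : IsSeparated (Red.bc (Spec.map (CommRingCat.ofHom φ)) N).hom := by dsimp; infer_instance
  have h9 : QuasiCompact (Red.bc (Spec.map (CommRingCat.ofHom φ)) N).hom := by dsimp; infer_instance
  exact hkey R' K' (Red.bc (Spec.map (CommRingCat.ofHom φ)) N) N'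
    (fibresUnipotentRankZero_bc hL2 (Spec.map (CommRingCat.ofHom φ)) N hss) u

end Groth.Agent.Sga7.H738.S4057Of
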