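import Groth.Agent.VarietyA.AmpleBC1
import Mathlib.AlgebraicGeometry.Morphisms.FinitePresentation
import Mathlib.CategoryTheory.Monoidal.Cartesian.Over

/-!
# Spreading out morphisms from `X ×_k Spec A`

`k` a commutative ring, `A` a `k`-algebra, `X, Y` schemes over `k`, `X` qcqs, `Y` locally of finite
presentation over `k`: every `k`-morphism `X ×_k Spec A ⟶ Y` comes from a finitely generated subalgebra.
-/

set_option autoImplicit false

universe u

open CategoryTheory Limits AlgebraicGeometry

namespace Groth.Agent.Sga7.H738.SpreadMor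

open Groth.Agent.VarietyA.AmpleBC1 Ega43.LimitDescend

variable (k : Type u) [CommRing k] (A : Type u) [CommRing A] [Algebra k A]

/-- `Spec A → Spec k` -/
noncomputable abbrev str : Spec (CommRingCat.of A) ⟶ Spec (CommRingCat.of k) :=
  Spec.map (CommRingCat.ofHom (algebraMap k A))

/-- A `k`-morphism from `X ×_k Spec A` to `Y` locally of finite presentation over `k` comes from
a `k`-morphism from `X ×_k Spec B` for `B` a finitely generated subalgebra of `A`. -/
theorem exists_fg_factor {X : Scheme.{u}} (f₀ : X ⟶ Spec (CommRingCat.of k)) [QuasiCompact f₀]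
    [QuasiSeparated f₀] {Y : Scheme.{u}} (g₀ : Y ⟶ Spec (CommRingCat.of k))
    [LocallyOfFinitePresentation g₀]
    (φ : pullback f₀ (str k A) ⟶ Y) (hφ : φ ≫ g₀ = pullback.fst _ _ ≫ f₀) :
    ∃ (B : Subalgebra k A) (_ : B.FG)
      (ψ : pullback f₀ (str k B) ⟶ Y), ψ ≫ g₀ = pullback.fst _ _ ≫ f₀ ∧
      pullback.map f₀ (str k A) f₀ (str k B) (𝟙 X) (Spec.map (CommRingCat.ofHom (algebraMap B A)))
        (𝟙 _) (by simp) (by
          rw [Category.comp_id, ← Spec.map_comp]; rfl) ≫ ψ = φ := by
  let D := pbDiagram (specT k A) (specT_w k A) f₀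
  let c := pbCone (specT k A) (specT_w k A) f₀ (specCone k A)
    (Spec.map (CommRingCat.ofHom (algebraMap k A))) (specCone_π_specT k A)
    (pullback.fst f₀ (Spec.map (CommRingCat.ofHom (algebraMap k A))))
    (pullback.snd f₀ (Spec.map (CommRingCat.ofHom (algebraMap k A)))) (IsPullback.of_hasPullback _ _)
  have hc : IsLimit c := isLimitPbCone _ _ _ _ _ _ _ _ _ (isLimitSpecCone k A)
  have : ∀ j, CompactSpace (D.obj j) := fun j =>
    compactSpace_pbDiagram_obj (specT k A) (specT_w k A) f₀ j
  have : ∀ j, QuasiSeparatedSpace (D.obj j) := fun j =>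
    quasiSeparatedSpace_pbDiagram_obj (specT k A) (specT_w k A) f₀ j
  have hD : ∀ {i j} (f : i ⟶ j), IsAffineHom (D.map f) := fun f =>
    isAffineHom_pbDiagram_map (specT k A) (specT_w k A) f₀ f
  let t : D ⟶ (Functor.const _).obj (Spec (CommRingCat.of k)) :=
    { app := fun j => pullback.fst f₀ (specT k A j) ≫ f₀
      naturality := fun i j h => by
        refine Eq.trans ?_ (Category.comp_id _).symm
        refine (Category.assoc _ _ _).symm.trans ?_
        exact congrArg (· ≫ f₀) (pbDiagram_map_fst (specT k A) (specT_w k A) f₀ h) }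
  obtain ⟨i, g, hg, hg'⟩ := Scheme.exists_π_app_comp_eq_of_locallyOfFinitePresentation D t g₀ c hc φ
    (by
      ext j
      change c.π.app j ≫ pullback.fst f₀ (specT k A j) ≫ f₀ = φ ≫ g₀
      rw [hφ, ← Category.assoc]
      exact congrArg (· ≫ f₀) (pbCone_π_fst _ _ _ _ _ _ _ _ _ j))
  refine ⟨i.unop.1, i.unop.2, g, hg', ?_⟩
  rw [← hg]
  congr 1

end Groth.Agent.Sga7.H738.SpreadMor
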